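import Groth.Agent.CurveSepPt.Field
import Groth.Agent.CurveBC.Main
import Groth.Agent.CurveCover.Cover
import Groth.Agent.CurveTrace.Trace
import Groth.Agent.InvX.Pullback
import Groth.Agent.Lib.FramesTrans
import Mathlib.LinearAlgebra.TensorProduct.Basis
import Mathlib.RingTheory.TensorProduct.IsBaseChangeFree

/-! A module of degree at most `2g - 2` with `g` sections has two sections with separating ratio. -/

noncomputable section

set_option autoImplicit false
set_option linter.style.haveILetI false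
set_option linter.unusedSectionVars false
set_option backward.isDefEq.respectTransparency false
set_option backward.isDefEq.respectTransparency.types false
set_option maxHeartbeats 1000000

universe u

open CategoryTheory CategoryTheory.Limits AlgebraicGeometry TopologicalSpace Opposite
open Groth.Agent.CurveCohLib.Polar (gη gη_injective eta_mem)

namespace Groth.Agent.CurveSepPt

attribute [local instance] CurveFF.ffAlg CurveBC.overBar

variable (k : Type u) [Field k] (X : Scheme.{u}) [X.Over (Spec (CommRingCat.of k))]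

/-- A scalar as a function on an open. -/
abbrev cstU (U : X.Opens) : k →+* Γ(X, U) :=
  ((Scheme.ΓSpecIso (CommRingCat.of k)).inv ≫ (X ↘ Spec (CommRingCat.of k)).appLE ⊤ U le_top).hom

theorem cstU_eq (U : X.Opens) (c : k) :
    cstU k X U c = AModX.resR (le_top : U ≤ ⊤) (Coh.toGlobal (X ↘ Spec (CommRingCat.of k)) c) := rfl

theorem gη_cstU [IsIntegral X] {U : X.Opens} {x : X} (hx : x ∈ U) (c : k) :
    gη hx (cstU k X U c) = algebraMap k X.functionField c :=
  TopCat.Presheaf.germ_res_apply X.presheaf (homOfLE (le_top : U ≤ ⊤)) (genericPoint X) (eta_mem hx) _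

variable (K : Type u) [Field K] [Algebra k K] {X} {X' : Scheme.{u}} [X'.Over (Spec (CommRingCat.of K))]
  {g : X' ⟶ X}
  (hpb : IsPullback g (X' ↘ Spec (CommRingCat.of K)) (X ↘ Spec (CommRingCat.of k))
      (Spec.map (CommRingCat.ofHom (algebraMap k K))))

include hpb in
theorem app_cstU (U : X.Opens) (c : k) :
    g.app U (cstU k X U c) = cstU K X' (g ⁻¹ᵁ U) (algebraMap k K c) := by
  have h1 : (X ↘ Spec (CommRingCat.of k)).appLE ⊤ U le_top ≫ g.app U =
      (Spec.map (CommRingCat.ofHom (algebraMap k K))).appLE ⊤ ⊤ le_top ≫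
        (X' ↘ Spec (CommRingCat.of K)).appLE ⊤ (g ⁻¹ᵁ U) le_top := by
    rw [Scheme.Hom.app_eq_appLE, Scheme.Hom.appLE_comp_appLE, Scheme.Hom.appLE_comp_appLE]
    simp only [hpb.w]
  have h2 : (Scheme.ΓSpecIso (CommRingCat.of k)).inv ≫
      (Spec.map (CommRingCat.ofHom (algebraMap k K))).appLE ⊤ ⊤ le_top =
      CommRingCat.ofHom (algebraMap k K) ≫ (Scheme.ΓSpecIso (CommRingCat.of K)).inv := by
    rw [Scheme.ΓSpecIso_inv_naturality, Scheme.Hom.appTop, Scheme.Hom.app_eq_appLE]
    rfl
  have h3 : ((Scheme.ΓSpecIso (CommRingCat.of k)).inv ≫ (X ↘ Spec (CommRingCat.of k)).appLE ⊤ U le_top) ≫ g.app U =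
      CommRingCat.ofHom (algebraMap k K) ≫ ((Scheme.ΓSpecIso (CommRingCat.of K)).inv ≫
        (X' ↘ Spec (CommRingCat.of K)).appLE ⊤ (g ⁻¹ᵁ U) le_top) := by
    rw [Category.assoc, h1, reassoc_of% h2]
  exact ConcreteCategory.congr_hom h3 c

include hpb in
/-- Independent functions on an affine open stay independent after extending the field. -/
theorem linearIndependent_app {U : X.Opens} (hU : IsAffineOpen U) {n : ℕ} (r : Fin n → Γ(X, U))
    (hr : letI := (cstU k X U).toAlgebra; LinearIndependent k r) :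
    letI := (cstU K X' (g ⁻¹ᵁ U)).toAlgebra
    LinearIndependent K (fun i => g.app U (r i)) := by
  letI : Algebra k Γ(X, U) := (cstU k X U).toAlgebra
  letI : Algebra K Γ(X', g ⁻¹ᵁ U) := (cstU K X' (g ⁻¹ᵁ U)).toAlgebra
  letI : Algebra Γ(X, U) Γ(X', g ⁻¹ᵁ U) := (g.app U).hom.toAlgebra
  letI : Algebra k Γ(X', g ⁻¹ᵁ U) :=
    ((cstU K X' (g ⁻¹ᵁ U)).comp (algebraMap k K)).toAlgebra
  haveI : IsScalarTower k K Γ(X', g ⁻¹ᵁ U) := IsScalarTower.of_algebraMap_eq fun _ => rfl
  haveI : IsScalarTower k Γ(X, U) Γ(X', g ⁻¹ᵁ U) :=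
    IsScalarTower.of_algebraMap_eq fun c => (app_cstU k K hpb U c).symm
  have hiso := isIso_pushoutSection_of_isAffineOpen hpb (US := ⊤) (UT := ⊤) (UX := U) (UY := g ⁻¹ᵁ U)
    le_top le_top (by simp) (isAffineOpen_top _) (isAffineOpen_top _) hU
  have hP := (isIso_pushoutSection_iff hpb (US := ⊤) (UT := ⊤) (UX := U) (UY := g ⁻¹ᵁ U)
    le_top le_top (by simp)).mp hiso
  have hP' : IsPushout (CommRingCat.ofHom (algebraMap k K)) (CommRingCat.ofHom (algebraMap k Γ(X, U)))
      (CommRingCat.ofHom (algebraMap K Γ(X', g ⁻¹ᵁ U)))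
      (CommRingCat.ofHom (algebraMap Γ(X, U) Γ(X', g ⁻¹ᵁ U))) := by
    refine hP.flip.of_iso (Scheme.ΓSpecIso (CommRingCat.of k)) (Scheme.ΓSpecIso (CommRingCat.of K))
      (Iso.refl _) (Iso.refl _) ?_ ?_ ?_ ?_
    · rw [← Iso.inv_comp_eq, ← Category.assoc, ← Iso.eq_comp_inv]
      rw [Scheme.ΓSpecIso_inv_naturality, Scheme.Hom.appTop, Scheme.Hom.app_eq_appLE]
      rfl
    · simp only [Iso.refl_hom, Category.comp_id]
      rw [← Iso.inv_comp_eq]
      rfl
    · simp only [Iso.refl_hom, Category.comp_id]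
      rw [← Iso.inv_comp_eq]
      rfl
    · simp only [Iso.refl_hom, Category.comp_id, Category.id_comp]
      exact (Scheme.Hom.app_eq_appLE g).symm
  haveI := CommRingCat.isPushout_iff_isPushout.mp hP'
  have hbc : IsBaseChange K (IsScalarTower.toAlgHom k Γ(X, U) Γ(X', g ⁻¹ᵁ U)).toLinearMap :=
    Algebra.IsPushout.out
  let b := Module.Basis.extend hr.linearIndepOn_id
  have hmem : ∀ i, r i ∈ hr.linearIndepOn_id.extend (Set.subset_univ _) := fun i =>
    Module.Basis.subset_extend hr.linearIndepOn_id ⟨i, rfl⟩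
  have h := (hbc.basis b).linearIndependent.comp (fun i => (⟨r i, hmem i⟩ : hr.linearIndepOn_id.extend _))
    (fun i j hij => hr.injective (congrArg Subtype.val hij))
  have hh : (fun i => g.app U (r i)) = hbc.basis b ∘ fun i => ⟨r i, hmem i⟩ := by
    funext i
    show _ = hbc.basis b ⟨r i, hmem i⟩
    rw [IsBaseChange.basis_apply, Module.Basis.coe_extend]
    rfl
  rw [hh]
  exact h

end Groth.Agent.CurveSepPt

namespace Groth.Agent.CurveSepPt

attribute [local instance] CurveFF.ffAlg CurveBC.overBar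

variable (k : Type u) [Field k] (X : Scheme.{u}) [X.Over (Spec (CommRingCat.of k))]
  [IsProper (X ↘ Spec (CommRingCat.of k))] [Smooth (X ↘ Spec (CommRingCat.of k))] [IsIntegral X]

/-- Two sections with separating ratio. -/
theorem exists_separating_ratio (hdim : topologicalKrullDim X = 1)
    (h0 : Module.finrank k (Coh.HH X (Coh.structureModule X) 0) = 1) (hg : 2 ≤ Curv2.genus k X)
    {L : X.Modules} (hL : PicF.IsInvertible L) (hd : Curv2.deg k X L 1 ≤ 2 * (Curv2.genus k X : ℤ) - 2)
    (hh : Curv2.genus k X ≤ Module.finrank k (Coh.HH X L 0)) :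
    ∃ (U : X.Opens) (hη : genericPoint X ∈ U) (e : Γ(L, U)) (t₀ t₁ : Coh.HH X L 0) (r : Γ(X, U)),
      IsAffineOpen U ∧ InvX.IsFrame e ∧
      AModX.res L (le_top : U ≤ ⊤) (Sheaf.H.equiv₀ (Coh.toAb L) isTerminalTop t₀ : Γ(L, ⊤)) = e ∧
      AModX.res L (le_top : U ≤ ⊤) (Sheaf.H.equiv₀ (Coh.toAb L) isTerminalTop t₁ : Γ(L, ⊤)) = r • e ∧
      KaehlerDifferential.D k X.functionField (gη hη r) ≠ 0 := by
  classical
  haveI := CurveCohLib.isNoetherian_of_proper (k := k) (X := X)
  haveI := CurveCohLib.finite_HH (k := k) (CurveDeg.isCoh_of_isInvertible hL) 0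
  let n := Module.finrank k (Coh.HH X L 0)
  let b : Module.Basis (Fin n) k (Coh.HH X L 0) := Module.finBasis k _
  let i₀ : Fin n := ⟨0, by omega⟩
  let σ : Fin n → Γ(L, ⊤) := fun i => Sheaf.H.equiv₀ (Coh.toAb L) isTerminalTop (b i)
  have hσ0 : σ i₀ ≠ 0 := fun h => b.ne_zero i₀
    ((Sheaf.H.equiv₀ (Coh.toAb L) isTerminalTop).injective (h.trans (map_zero _).symm))
  obtain ⟨x, hx⟩ : (H23.TrivBasic.locus (σ i₀) : Set X).Nonempty := by
    rw [Set.nonempty_iff_ne_empty]
    exact fun h => H23.TrivBasic.locus_ne_bot hL hσ0 (Opens.ext h)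
  obtain ⟨_, ⟨U, hU, rfl⟩, hxU, hUl⟩ :=
    X.isBasis_affineOpens.exists_subset_of_mem_open (eta_mem hx) (H23.TrivBasic.locus (σ i₀)).2
  replace hU : IsAffineOpen U := hU
  have hη : genericPoint X ∈ U := hxU
  have he := H23.TrivBasic.isFrame_res_of_le_locus (U := U) (s := σ i₀) hUl
  choose r hr using fun i => he.exists_coord le_rfl (AModX.res L (le_top : U ≤ ⊤) (σ i))
  simp only [AModX.res_self] at hr
  by_cases hD : ∀ i, KaehlerDifferential.D k X.functionField (gη hη (r i)) = 0
  swap
  · push Not at hD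
    obtain ⟨i, hi⟩ := hD
    exact ⟨U, hη, _, b i₀, b i, r i, hU, he, rfl, hr i, hi⟩
  exfalso
  let X' := Curv2.bc k X (AlgebraicClosure k)
  let π : X' ⟶ X := Curv2.bcFst k X (AlgebraicClosure k)
  obtain ⟨_, _, _, hd', _, hsurj⟩ := CurveBC.bar_facts k X hdim h0
  haveI : Surjective π := hsurj
  have hpb : IsPullback π (X' ↘ Spec (CommRingCat.of (AlgebraicClosure k))) (X ↘ Spec (CommRingCat.of k))
      (Spec.map (CommRingCat.ofHom (algebraMap k (AlgebraicClosure k)))) := CurveBC.isPullback_bar k X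
  haveI := quasiSeparatedSpace_of_quasiSeparated (X ↘ Spec (CommRingCat.of k))
  haveI := QuasiCompact.compactSpace_of_compactSpace (X ↘ Spec (CommRingCat.of k))
  have hq := ProjUPX.isQCoh_of_isInvertible hL
  have hL' : PicF.IsInvertible ((Scheme.Modules.pullback π).obj L) := PicClLib.isInvertible_pullback π hL
  have eg : π (genericPoint X') = genericPoint X := by
    have h1 := (genericPoint_spec (X' : Type u)).image π.continuous
    rw [Set.image_univ, π.surjective.range_eq, closure_univ] at h1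
    exact h1.eq (genericPoint_spec X)
  have hη' : genericPoint X' ∈ π ⁻¹ᵁ U := CurveTrace.gen_mem eg hη
  let ι := CurveTrace.ff eg
  letI : Algebra X.functionField X'.functionField := ι.toAlgebra
  letI : Algebra k X'.functionField :=
    ((algebraMap (AlgebraicClosure k) X'.functionField).comp (algebraMap k (AlgebraicClosure k))).toAlgebra
  haveI : IsScalarTower k (AlgebraicClosure k) X'.functionField := IsScalarTower.of_algebraMap_eq fun _ => rfl
  haveI : IsScalarTower k X.functionField X'.functionField := IsScalarTower.of_algebraMap_eq fun c => by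
    show algebraMap (AlgebraicClosure k) X'.functionField (algebraMap k (AlgebraicClosure k) c) =
      ι (algebraMap k X.functionField c)
    rw [← gη_cstU (AlgebraicClosure k) X' hη', ← app_cstU k (AlgebraicClosure k) hpb U c,
      ← gη_cstU k X hη]
    exact (CurveTrace.ff_gη eg hη _).symm
  have he' := InvX.isFrame_pullElt π he
  let φ : Fin n → X'.functionField := fun i => gη hη' (π.app U (r i))
  -- the differentials vanish upstairs
  have hDφ : ∀ i, KaehlerDifferential.D (AlgebraicClosure k) X'.functionField (φ i) = 0 := fun i => by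
    have h1 := congrArg (KaehlerDifferential.map k (AlgebraicClosure k) X.functionField X'.functionField) (hD i)
    rw [KaehlerDifferential.map_D, map_zero] at h1
    rwa [show φ i = algebraMap X.functionField X'.functionField (gη hη (r i)) from
      (CurveTrace.ff_gη eg hη (r i)).symm]
  -- independence
  have hrind : letI := (cstU k X U).toAlgebra; LinearIndependent k r := by
    letI := (cstU k X U).toAlgebra
    rw [Fintype.linearIndependent_iff]
    intro c hc
    refine Fintype.linearIndependent_iff.1 b.linearIndependent c ?_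
    refine (Sheaf.H.equiv₀ (Coh.toAb L) isTerminalTop).injective ?_
    rw [map_sum, map_zero]
    refine CurveFF.ext_gM hL (show genericPoint X ∈ (⊤ : X.Opens) from trivial) ?_
    rw [map_sum, map_zero]
    have h2 := congrArg (fun a : Γ(X, U) => CurveFF.gM hη (a • AModX.res L (le_top : U ≤ ⊤) (σ i₀))) hc
    simp only [zero_smul, map_zero] at h2
    rw [Finset.sum_smul, map_sum] at h2
    refine Eq.trans (Finset.sum_congr rfl fun i _ => ?_) h2
    rw [Algebra.smul_def, mul_smul, ← hr i, CurveFF.gM_smul, CurveFF.gM_res,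
      CurveCohLib.h0Equiv_smul]
    refine (CurveFF.gM_smul _ _ _).trans ?_
    refine congrArg (· • _) ?_
    exact (ConcreteCategory.congr_hom (congrArg (fun a => a ≫ X.presheaf.germ ⊤ (genericPoint X) trivial)
      (X.presheaf.map_id (op ⊤))) _).trans (gη_cstU k X hη (c i)).symm
  have hφ : LinearIndependent (AlgebraicClosure k) φ := by
    letI := (cstU (AlgebraicClosure k) X' (π ⁻¹ᵁ U)).toAlgebra
    let G : Γ(X', π ⁻¹ᵁ U) →ₗ[AlgebraicClosure k] X'.functionField :=
      { toFun := gη hη'
        map_add' := map_add _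
        map_smul' := fun c a => by
          rw [RingHom.id_apply, Algebra.smul_def, Algebra.smul_def, map_mul]
          congr 1
          exact gη_cstU (AlgebraicClosure k) X' hη' c }
    exact (linearIndependent_app k (AlgebraicClosure k) hpb hU r hrind).map' G
      (LinearMap.ker_eq_bot.2 (gη_injective hη'))
  -- membership
  let ē := InvX.pullElt π (AModX.res L (le_top : U ≤ ⊤) (σ i₀))
  let D := CurveFF.divisor (AlgebraicClosure k) hd' hL' he' hη'
  have htop : genericPoint X' ∈ (⊤ : X'.Opens) := trivial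
  have hratio : ∀ i, CurveFF.ratio he' hη' htop
      (show Γ((Scheme.Modules.pullback π).obj L, ⊤) from InvX.pullElt π (σ i)) = φ i := fun i => by
    refine CurveFF.ratio_eq he' ?_
    have h1 : InvX.pullElt π (AModX.res L (le_top : U ≤ ⊤) (σ i)) =
        π.app U (r i) • ē := by rw [hr i, FramesTrans.pullElt_smul]
    rw [FramesTrans.pullElt_res] at h1
    have h2 := congrArg (CurveFF.gM hη') h1
    rw [CurveFF.gM_smul, CurveFF.gM_res] at h2
    exact h2.symm
  have hmem : ∀ i, φ i ∈ FunFld.L D := fun i P => by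
    obtain ⟨z, rfl⟩ := (CurveFF.pl (AlgebraicClosure k) X' hd').surjective P
    have hz := eta_mem (CurveFF.mem_chartU hL' z)
    rw [CurveFF.exp_divisor (AlgebraicClosure k) hd' hL' he' hη' (CurveFF.isFrame_chartE hL' z) hz
      (CurveFF.mem_chartU hL' z), ← hratio i,
      CurveFF.ratio_trans he' hη' (CurveFF.isFrame_chartE hL' z) hz, map_mul]
    exact mul_le_of_le_one_left' ((CurveFF.inR_iff (AlgebraicClosure k) X' hd' z _).1
      (CurveFF.inR_ratio (CurveFF.isFrame_chartE hL' z) hz _ _ (CurveFF.mem_chartU hL' z) trivial))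
  have hone : φ i₀ = 1 := by
    rw [← hratio i₀]
    refine CurveFF.ratio_eq he' ?_
    rw [one_smul]
    exact CurveFF.gM_res (le_top : π ⁻¹ᵁ U ≤ ⊤) hη' _ ▸ congrArg (CurveFF.gM hη') (FramesTrans.pullElt_res π _ _)
  have hD0 : 0 ≤ D := fun P => by
    have h := hmem i₀ P
    rw [hone, map_one, ← WithZero.exp_zero, WithZero.exp_le_exp] at h
    exact h
  have hgen : FunFld.genus (AlgebraicClosure k) X'.functionField = Curv2.genus k X :=
    (CurveFF.genus_eq (AlgebraicClosure k) hd').trans (CurveBC.genus_eq k _ π hpb)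
  have hdeg : D.deg ≤ 2 * (FunFld.genus (AlgebraicClosure k) X'.functionField : ℤ) - 2 := by
    rw [CurveFF.deg_divisor, CurveBC.deg_eq k _ π hpb L hq 1, hgen]
    exact hd
  obtain ⟨i, hi⟩ := exists_D_ne_zero (CurveFF.isFunctionField (AlgebraicClosure k) X' hd')
    (hgen.symm ▸ hg) hD0 hdeg (hgen.symm ▸ hh) φ hφ hmem
  exact hi (hDφ i)

end Groth.Agent.CurveSepPt
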