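import Groth.Agent.FFLib.Geometric
import Groth.Agent.FFLib.Rational
import Groth.Agent.CurveFF.Degree
import Groth.Agent.S11000
import Groth.Agent.S11002

/-! Over an algebraically closed field a large Riemann-Roch space of small degree contains a
separating function. -/

noncomputable section

set_option autoImplicit false
set_option linter.style.haveILetI false
set_option linter.unusedSectionVars false

universe u

open FunFld WithZero

namespace Groth.Agent.CurveSepPt

variable {k K : Type u} [Field k] [IsAlgClosed k] [Field K] [Algebra k K]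

theorem zdiv_le {a : ℤ} {p : ℕ} (hp : 0 < p) {m : ℤ} (h : (p : ℤ) * a ≤ m) : a ≤ m / (p : ℤ) :=
  (Int.le_ediv_iff_mul_le (by exact_mod_cast hp)).2 (by linarith [mul_comm (p : ℤ) a])

/-- The root of a bounded function is bounded by the divided divisor. -/
theorem mem_L_root (p : ℕ) (hp : 0 < p) {D : Divisor k K} {y : K} (hy : y ^ p ∈ L D) :
    y ∈ L (D.mapRange (fun n : ℤ => n / (p : ℤ)) (Int.zero_ediv _)) := by
  intro P
  rw [Finsupp.mapRange_apply]
  by_cases hy0 : y = 0
  · rw [hy0, map_zero]; exact bot_le
  have h := hy P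
  rw [map_pow, FFLib.val_eq_exp P hy0, ← exp_nsmul, exp_le_exp] at h
  rw [FFLib.val_eq_exp P hy0, exp_le_exp]
  exact zdiv_le hp (by simpa using h)

theorem deg_eq_sum (hF : FFLib.IsFF k K) (D : Divisor k K) : D.deg = D.sum fun _ n => n := by
  unfold Divisor.deg
  refine Finsupp.sum_congr fun P _ => ?_
  rw [FFLib.deg_eq_one hF P]
  simp

theorem mul_deg_mapRange_le (hF : FFLib.IsFF k K) (p : ℕ) (hp : 0 < p) (D : Divisor k K) :
    (p : ℤ) * Divisor.deg (D.mapRange (fun n : ℤ => n / (p : ℤ)) (Int.zero_ediv _) : Divisor k K) ≤ D.deg := by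
  rw [deg_eq_sum hF, deg_eq_sum hF, Finsupp.sum_mapRange_index (fun _ => rfl)]
  simp only [Finsupp.sum, Finset.mul_sum]
  exact Finset.sum_le_sum fun P _ => Int.mul_ediv_self_le (by exact_mod_cast hp.ne')

theorem exists_le_deg (hF : FFLib.IsFF k K) {E : Divisor k K} (hE : 0 ≤ E) (hd : 1 ≤ E.deg) :
    ∃ P : Place k K, Finsupp.single P (1 : ℤ) ≤ E := by
  by_contra h
  push Not at h
  have hz : ∀ P, E P = 0 := fun P => by
    refine le_antisymm (not_lt.1 fun hpos => h P fun Q => ?_) (hE P)
    by_cases hQ : Q = P
    · subst hQ; rw [Finsupp.single_eq_same]; omega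
    · rw [Finsupp.single_eq_of_ne (Ne.symm (fun h' => hQ h'.symm))]; exact hE Q
  obtain rfl : E = 0 := Finsupp.ext fun P => (hz P).trans rfl
  simp [Divisor.deg] at hd

/-- Independent functions in a space of degree at most `2g - 2` and dimension `g` are not all
killed by the differential. -/
theorem exists_D_ne_zero (hK : IsFunctionField k K) (hg : 2 ≤ genus k K) {D : Divisor k K}
    (hD : 0 ≤ D) (hdeg : D.deg ≤ 2 * (genus k K : ℤ) - 2) {n : ℕ} (hn : genus k K ≤ n)
    (φ : Fin n → K) (hφ : LinearIndependent k φ) (hmem : ∀ i, φ i ∈ L D) :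
    ∃ i, KaehlerDifferential.D k K (φ i) ≠ 0 := by
  classical
  by_contra hall
  push Not at hall
  have hgeo : IsGeometric k K := S11000.result k K hK
  obtain ⟨q, hq⟩ := CharP.exists K
  rcases CharP.char_is_prime_or_zero K q with hprime | rfl
  · haveI := Fact.mk hprime
    haveI : CharP k q := (Algebra.charP_iff k K q).2 hq
    haveI : ExpChar k q := ExpChar.prime hprime
    haveI : PerfectRing k q := PerfectField.toPerfectRing q
    have hroot : ∀ i, ∃ y : K, y ^ q = φ i := by
      intro i
      have h := ((S11002.result k K q hK hgeo (φ i)).1).2 (hall i)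
      have hsub : IntermediateField.adjoin k (Set.range fun y : K => y ^ q) ≤
          (frobenius K q).fieldRange.toIntermediateField (fun c => by
            obtain ⟨c', hc'⟩ := surjective_frobenius k q c
            refine ⟨algebraMap k K c', ?_⟩
            rw [frobenius_def, ← map_pow]
            exact congrArg (algebraMap k K) hc') := by
        rw [IntermediateField.adjoin_le_iff]
        rintro _ ⟨y, rfl⟩
        exact ⟨y, rfl⟩
      obtain ⟨y, hy⟩ := hsub h
      exact ⟨y, hy⟩
    choose y hy using hroot
    let E : Divisor k K := D.mapRange (fun n : ℤ => n / (q : ℤ)) (Int.zero_ediv _)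
    have hq0 : 0 < q := hprime.pos
    have hyE : ∀ i, y i ∈ L E := fun i => mem_L_root q hq0 (by rw [hy i]; exact hmem i)
    have hyi : LinearIndependent k y := by
      rw [Fintype.linearIndependent_iff]
      intro c hc i
      have h1 : ∑ j, c j ^ q • φ j = 0 := by
        have h2 := congrArg (frobenius K q) hc
        rw [map_sum, map_zero] at h2
        rw [← h2]
        refine Finset.sum_congr rfl fun j _ => ?_
        rw [frobenius_def, Algebra.smul_def, Algebra.smul_def, mul_pow, ← map_pow, hy j]
      exact pow_eq_zero_iff hq0.ne' |>.1 (Fintype.linearIndependent_iff.1 hφ _ h1 i)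
    haveI := FFLib.L_finite hK.1 E
    have hell : n ≤ ell E := by
      have h := (LinearIndependent.fintype_card_le_finrank
        (LinearIndependent.of_comp (L E).subtype (show LinearIndependent k
          ((L E).subtype ∘ fun i => (⟨y i, hyE i⟩ : L E)) from hyi)))
      simpa [ell] using h
    have hle := mul_deg_mapRange_le hK.1 q hq0 D
    have hsucc := CurveFF.ell_le_succ hK (D := E) (by omega)
    have hq2 : (2 : ℤ) ≤ q := by exact_mod_cast hprime.two_le
    have hEd : (genus k K : ℤ) - 1 ≤ E.deg := by
      have : (genus k K : ℤ) ≤ ell E := by exact_mod_cast hn.trans hell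
      linarith
    have hE0 : 0 ≤ E := fun P => by
      simp only [E, Finsupp.coe_zero, Pi.zero_apply, Finsupp.mapRange_apply]
      exact Int.ediv_nonneg (hD P) (by positivity)
    obtain ⟨P, hP⟩ := exists_le_deg hK.1 hE0 (by omega)
    have h3 := (FFLib.ell_le_of_le hK.1 hP).2
    rw [FFLib.ell_single_one hK (by omega) (FFLib.deg_eq_one hK.1 P), FFLib.Divisor.deg_single,
      FFLib.deg_eq_one hK.1 P] at h3
    have hEu : E.deg ≤ (genus k K : ℤ) - 1 := by nlinarith
    have : (genus k K : ℤ) ≤ ell E := by exact_mod_cast hn.trans hell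
    push_cast at h3
    linarith
  · haveI : CharZero K := CharP.charP_to_charZero K
    haveI : CharZero k := (algebraMap k K).charZero_iff (algebraMap k K).injective |>.2 inferInstance
    have hconst : ∀ i, ∃ c : k, algebraMap k K c = φ i := by
      intro i
      by_contra hc
      have htr : Transcendental k (φ i) := fun halg => hc (hK.2 _ halg)
      haveI : FiniteDimensional (IntermediateField.adjoin k ({φ i} : Set K)) K :=
        FFLib.IsFF.finite_adjoin hK.1 htr
      exact FFLib.D_ne_zero hK htr inferInstance (hall i)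
    choose c hc using hconst
    have h1 : (⟨0, by omega⟩ : Fin n) ≠ ⟨1, by omega⟩ := by simp [Fin.ext_iff]
    have hz := Fintype.linearIndependent_iff.1 hφ
      (Pi.single ⟨0, by omega⟩ (c ⟨1, by omega⟩) - Pi.single ⟨1, by omega⟩ (c ⟨0, by omega⟩)) ?_
      ⟨1, by omega⟩
    · simp [h1.symm] at hz
      exact hφ.ne_zero ⟨0, by omega⟩ (by rw [← hc, hz, map_zero])
    · simp only [Pi.sub_apply, sub_smul, Finset.sum_sub_distrib, Pi.single_apply, ite_smul, zero_smul,
        Finset.sum_ite_eq', Finset.mem_univ, if_true]
      rw [Algebra.smul_def, Algebra.smul_def, hc, hc, mul_comm, sub_self]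

end Groth.Agent.CurveSepPt
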