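import Groth.Agent.CurveSepPt.Point
import Groth.Agent.CurveBC.Main
import Groth.Agent.CurveZeta.Base
import Groth.Agent.Neron6.BirOpen
import Groth.Agent.FrobTwist.Invariants
import Groth.Agent.NodeFam.QuadStalk

/-! Closed points of small degree with separable residue field. -/

noncomputable section

set_option autoImplicit false
set_option linter.style.haveILetI false
set_option linter.unusedSectionVars false
set_option backward.isDefEq.respectTransparency false
set_option backward.isDefEq.respectTransparency.types false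
set_option maxHeartbeats 1000000

universe u

open CategoryTheory CategoryTheory.Limits AlgebraicGeometry TopologicalSpace Opposite
open Groth.Agent.CurveCohLib.Polar (gη gη_injective eta_mem)

namespace Groth.Agent.CurveSepPt

attribute [local instance] CurveFF.ffAlg Curv2.resAlgebra

variable (k : Type u) [Field k] (X : Scheme.{u}) [X.Over (Spec (CommRingCat.of k))]
  [IsProper (X ↘ Spec (CommRingCat.of k))] [Smooth (X ↘ Spec (CommRingCat.of k))] [IsIntegral X]

/-- A section vanishing at a point bounds the degree of the point. -/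
theorem finrank_le_deg (hdim : topologicalKrullDim X = 1) {L : X.Modules} (hL : PicF.IsInvertible L)
    {t : Coh.HH X L 0} (ht : t ≠ 0) {x : X} (hx : IsClosed ({x} : Set X))
    (h : L.presheaf.germ ⊤ x trivial (Sheaf.H.equiv₀ (Coh.toAb L) isTerminalTop t : Γ(L, ⊤)) ∈
      IsLocalRing.maximalIdeal (X.presheaf.stalk x) •
        (⊤ : Submodule (X.presheaf.stalk x) (L.presheaf.stalk x))) :
    (Module.finrank k (X.residueField x) : ℤ) ≤ Curv2.deg k X L 1 := by
  haveI := CurveCohLib.isNoetherian_of_proper (k := k) (X := X)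
  have hn := (Neron6.isNormalScheme_of_smooth (X ↘ Spec (CommRingCat.of k)) FrobTwist.isNormalScheme_Spec x).2
  have hI := CurveEmbed.isInvertible_point k hdim hx hn
  have hT : PicF.IsInvertible ((DCoh.tensorBi.obj L).obj (CurvePoint.ptMod x hx)) :=
    InvX.isInvertible_tensorMod hL hI
  have hnt := CurveCohLib.GermTwist.nontrivial_of_germ_mem k (fun y => let ⟨U, hy, ⟨e⟩⟩ := hL y
      ⟨U, 1, hy, ⟨e ≪≫ (coproductUniqueIso fun _ : Fin 1 => Coh.structureModule (U : Scheme.{u})).symm⟩⟩) x hx ht h
  haveI := CurveCohLib.finite_HH (k := k) (CurveDeg.isCoh_of_isInvertible hT) 0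
  obtain ⟨s, hs⟩ := CurveRR.exists_hom_ne_zero k (P := (DCoh.tensorBi.obj L).obj (CurvePoint.ptMod x hx))
    (Module.finrank_pos (R := k) (M := Coh.HH X ((DCoh.tensorBi.obj L).obj (CurvePoint.ptMod x hx)) 0)).ne'
  have h1 := (CurveDeg.deg_le_and_isIso k hdim.le CurveDeg.isInvertible_structureModule hT s hs).1
  rw [CurveDeg.deg_structureModule, CurveRR.deg_tensor k hdim hL hI, CurveEmbed.deg_point k hx] at h1
  omega

variable (hdim : topologicalKrullDim X = 1)
  (h0 : Module.finrank k (Coh.HH X (Coh.structureModule X) 0) = 1) (hg : 2 ≤ Curv2.genus k X)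

include hdim

theorem not_isAlgebraic : ¬ Algebra.IsAlgebraic k X.functionField := fun h => by
  obtain ⟨t, ht, -⟩ := CurveZeta.exists_transcendental k X hdim
  exact ht (h.isAlgebraic t)

include h0 hg

/-- The differentials have a separable point of degree at most `2g - 2` in their linear system. -/
theorem exists_separable_point :
    ∃ x : X, IsClosed ({x} : Set X) ∧ Algebra.IsSeparable k (X.residueField x) ∧
      Module.finrank k (X.residueField x) ≤ 2 * Curv2.genus k X - 2 ∧
      FiniteDimensional k (X.residueField x) := by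
  classical
  haveI := CurveCohLib.isNoetherian_of_proper (k := k) (X := X)
  haveI : JacobsonSpace X := LocallyOfFiniteType.jacobsonSpace (X ↘ Spec (CommRingCat.of k))
  have hL := CurveBC.isInvertible_omega k X hdim h0
  obtain ⟨hh, hd⟩ := CurveBC.canonical_invariants k X hdim h0
  generalize Omega.sheaf (X ↘ Spec (CommRingCat.of k)) = L at hL hh hd
  have hfin : ∀ x : X, IsClosed ({x} : Set X) → FiniteDimensional k (X.residueField x) := fun x hx =>
    NodeFam.finite_residueField_of_isClosed (X ↘ Spec (CommRingCat.of k)) hx fun c => rfl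
  rcases finite_or_infinite k with hk | hk
  · haveI := CurveCohLib.finite_HH (k := k) (CurveDeg.isCoh_of_isInvertible hL) 0
    obtain ⟨t, ht⟩ : ∃ t : Coh.HH X L 0, t ≠ 0 := by
      haveI := Module.finrank_pos_iff (R := k) (M := Coh.HH X L 0) |>.1 (by omega)
      exact exists_ne 0
    obtain ⟨x, hx, hm⟩ := CurveCohLib.GermTwist.exists_zero k hdim hL (by omega) ht
    haveI := hfin x hx
    refine ⟨x, hx, inferInstance, ?_, inferInstance⟩
    have := finrank_le_deg k X hdim hL ht hx hm
    omega
  obtain ⟨U, hη, e, t₀, t₁, r, hU, he, h0', h1', hD⟩ :=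
    exists_separating_ratio k X hdim h0 hg hL hd.le hh.ge
  haveI : Nonempty U := ⟨⟨_, hη⟩⟩
  letI : Algebra k Γ(X, U) := (cstU k X U).toAlgebra
  haveI : IsScalarTower k Γ(X, U) X.functionField :=
    IsScalarTower.of_algebraMap_eq fun c => (gη_cstU k X hη c).symm
  haveI := functionField_isFractionRing_of_isAffineOpen X U hU
  haveI : Algebra.FiniteType k Γ(X, U) := by
    have h := (X ↘ Spec (CommRingCat.of k)).finiteType_appLE (isAffineOpen_top _) hU le_top
    exact RingHom.finiteType_algebraMap.1 (h.comp (RingHom.FiniteType.of_surjective _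
      (Scheme.ΓSpecIso (CommRingCat.of k)).commRingCatIsoToRingEquiv.symm.surjective))
  have hspan : Submodule.span X.functionField {KaehlerDifferential.D k X.functionField (gη hη r)} = ⊤ := by
    have hex := FrobTwist.exists_span_D (X ↘ Spec (CommRingCat.of k)) hdim
    have halg : (CurveLuroth.ffC (X ↘ Spec (CommRingCat.of k))).hom.toAlgebra = CurveFF.ffAlg k X :=
      Algebra.algebra_ext _ _ fun c => by
        show (CurveLuroth.ffC (X ↘ Spec (CommRingCat.of k))).hom c = Curv2.stalkMap k X (genericPoint X) c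
        rw [FrobTwist.ffC_eq_scal]
        rfl
    rw [halg] at hex
    obtain ⟨t, ht⟩ := hex
    obtain ⟨a, ha⟩ := Submodule.mem_span_singleton.1
      (ht.ge (Submodule.mem_top (x := KaehlerDifferential.D k X.functionField (gη hη r))))
    have ha0 : a ≠ 0 := fun h => hD (by rw [← ha, h, zero_smul])
    rw [← ha, Submodule.span_singleton_smul_eq (IsUnit.mk0 a ha0)]
    exact ht
  obtain ⟨c, q, hq, hrc, hsep, hfinq⟩ :=
    exists_maximal_separable (B := Γ(X, U)) (K := X.functionField) r hspan (not_isAlgebraic k X hdim)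
  let y : Spec Γ(X, U) := ⟨q, hq.isPrime⟩
  let x : X := hU.fromSpec y
  have hxU : x ∈ U := by
    show hU.fromSpec y ∈ (U : Set X)
    rw [← hU.range_fromSpec]
    exact ⟨y, rfl⟩
  have hpy : hU.primeIdealOf ⟨x, hxU⟩ = y :=
    hU.fromSpec.isOpenEmbedding.injective (hU.fromSpec_primeIdealOf ⟨x, hxU⟩)
  have hxc : IsClosed ({x} : Set X) := ExtStalk.isClosed_of_isMaximal hU hxU (by rw [hpy]; exact hq)
  -- evaluation at the point
  let ev : Γ(X, U) →ₐ[k] X.residueField x :=
    { (X.evaluation U x hxU).hom with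
      commutes' := fun c => congrArg (X.residue x)
        (TopCat.Presheaf.germ_res_apply X.presheaf (homOfLE (le_top : U ≤ ⊤)) x hxU _) }
  have hker : ∀ a, ev a = 0 ↔ a ∈ q := fun a => by
    show X.evaluation U x hxU a = 0 ↔ _
    rw [Scheme.evaluation_eq_zero_iff_notMem_basicOpen]
    have h1 : x ∈ X.basicOpen a ↔ y ∈ hU.fromSpec ⁻¹ᵁ X.basicOpen a := Iff.rfl
    rw [h1, hU.fromSpec_preimage_basicOpen a]
    exact not_not
  have hev : Function.Surjective ev := by
    intro w
    obtain ⟨v, rfl⟩ := Scheme.residue_surjective X x w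
    letI := TopCat.Presheaf.algebra_section_stalk X.presheaf (⟨x, hxU⟩ : U)
    haveI := hU.isLocalization_stalk' y hxU
    obtain ⟨⟨a, s⟩, has⟩ := IsLocalization.surj y.asIdeal.primeCompl v
    obtain ⟨s', hs'⟩ := Ideal.Quotient.exists_inv (hI := hq) (I := q) (a := Ideal.Quotient.mk q s.1)
      (fun h => s.2 (Ideal.Quotient.eq_zero_iff_mem.1 h))
    obtain ⟨s', rfl⟩ := Ideal.Quotient.mk_surjective s'
    refine ⟨a * s', ?_⟩
    have h1 : ev s.1 * ev s' = 1 := by
      rw [← map_mul, ← map_one ev, ← sub_eq_zero, ← map_sub, hker, ← Ideal.Quotient.eq_zero_iff_mem,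
        map_sub, map_mul, hs', map_one, sub_self]
    have h2 : X.residue x v * ev s.1 = ev a := by
      show X.residue x v * X.residue x (algebraMap Γ(X, U) (X.presheaf.stalk x) s.1) = X.residue x _
      rw [← map_mul, has]
      rfl
    rw [map_mul, ← h2, mul_assoc, h1, mul_one]
  let E : (Γ(X, U) ⧸ q) →ₐ[k] X.residueField x := Ideal.Quotient.liftₐ q ev fun a ha => (hker a).2 ha
  have hE : Function.Bijective E := by
    refine ⟨(injective_iff_map_eq_zero _).2 fun w hw => ?_, fun w => ?_⟩
    · obtain ⟨a, rfl⟩ := Ideal.Quotient.mk_surjective w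
      exact Ideal.Quotient.eq_zero_iff_mem.2 ((hker a).1 hw)
    · obtain ⟨a, rfl⟩ := hev w
      exact ⟨Ideal.Quotient.mk q a, rfl⟩
  haveI := hfin x hxc
  letI : Field (Γ(X, U) ⧸ q) := Ideal.Quotient.field q
  haveI := hsep
  refine ⟨x, hxc, AlgEquiv.Algebra.isSeparable (AlgEquiv.ofBijective E hE), ?_, inferInstance⟩
  -- the section vanishing at the point
  let eq0 := Sheaf.H.equiv₀ (Coh.toAb L) isTerminalTop
  let t := t₁ - c • t₀
  have hres : AModX.res L (le_top : U ≤ ⊤) (eq0 t : Γ(L, ⊤)) = (r - algebraMap k Γ(X, U) c) • e := by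
    have h2 : AModX.res L (le_top : U ≤ ⊤) (eq0 (c • t₀) : Γ(L, ⊤)) = algebraMap k Γ(X, U) c • e := by
      refine (congrArg (AModX.res L (le_top : U ≤ ⊤)) (CurveCohLib.h0Equiv_smul L c t₀)).trans ?_
      refine (AModX.res_smul _ _ _).trans ?_
      rw [h0']
      refine congrArg (· • e) ?_
      show AModX.resR _ (Coh.resTop X (op ⊤) _) = cstU k X U c
      rw [cstU_eq]
      exact congrArg (AModX.resR _) (ConcreteCategory.congr_hom (X.presheaf.map_id (op ⊤)) _)
    rw [sub_smul, ← h1', ← h2]
    exact (congrArg (AModX.res L (le_top : U ≤ ⊤)) (map_sub eq0 t₁ (c • t₀))).trans (map_sub _ _ _)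
  have ht : t ≠ 0 := fun h => by
    rw [h] at hres
    have h3 : (r - algebraMap k Γ(X, U) c) • e = (0 : Γ(X, U)) • e := by
      rw [zero_smul, ← hres]
      exact (congrArg (AModX.res L (le_top : U ≤ ⊤)) (map_zero eq0)).trans (map_zero _)
    have h4 := he.coord_unique le_rfl (r := r - algebraMap k Γ(X, U) c) (r' := 0)
      (by rw [AModX.res_self]; exact h3)
    apply hD
    rw [sub_eq_zero.1 h4]
    show KaehlerDifferential.D k X.functionField (gη hη (cstU k X U c)) = 0
    rw [gη_cstU, Derivation.map_algebraMap]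
  have hm : L.presheaf.germ ⊤ x trivial (eq0 t : Γ(L, ⊤)) ∈
      IsLocalRing.maximalIdeal (X.presheaf.stalk x) •
        (⊤ : Submodule (X.presheaf.stalk x) (L.presheaf.stalk x)) := by
    rw [← InvX.germ_res' (le_top : U ≤ ⊤) hxU (eq0 t : Γ(L, ⊤)), hres, QCoh.germ_smul']
    refine Submodule.smul_mem_smul ?_ Submodule.mem_top
    exact (IsLocalRing.residue_eq_zero_iff _).1 ((hker _).2 hrc)
  have := finrank_le_deg k X hdim hL ht hxc hm
  omega

end Groth.Agent.CurveSepPt
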