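import Groth.Agent.CurveSepPt.Bar
import Groth.Agent.CurveEmbed.Points
import Groth.Agent.CurveCohLib.GermTwist
import Groth.Agent.FrobTwist.Cyclic
import Groth.Agent.Lib.ExtStalk
import Mathlib.RingTheory.Unramified.Locus
import Mathlib.RingTheory.Unramified.Field
import Mathlib.RingTheory.Unramified.Finite
import Mathlib.RingTheory.Flat.TorsionFree
import Mathlib.RingTheory.Spectrum.Prime.Chevalley

/-! A separable closed point of degree at most `2g - 2`. -/

noncomputable section

set_option autoImplicit false
set_option linter.style.haveILetI false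
set_option linter.unusedSectionVars false
set_option backward.isDefEq.respectTransparency false
set_option backward.isDefEq.respectTransparency.types false
set_option maxHeartbeats 1000000

universe u

open CategoryTheory CategoryTheory.Limits AlgebraicGeometry TopologicalSpace Opposite
open Groth.Agent.CurveCohLib.Polar (gη gη_injective eta_mem)

namespace Groth.Agent.CurveSepPt

/-- Over an infinite field, a function with nonzero differential takes some rational value at a point
with separable residue field. -/
theorem exists_maximal_separable {k B K : Type u} [Field k] [Infinite k] [CommRing B] [IsDomain B] [Field K]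
    [Algebra k B] [Algebra k K] [Algebra B K] [IsScalarTower k B K] [IsFractionRing B K]
    [Algebra.FiniteType k B] (r : B)
    (hspan : Submodule.span K {KaehlerDifferential.D k K (algebraMap B K r)} = ⊤)
    (hK : ¬ Algebra.IsAlgebraic k K) :
    ∃ (c : k) (q : Ideal B), q.IsMaximal ∧ r - algebraMap k B c ∈ q ∧
      Algebra.IsSeparable k (B ⧸ q) ∧ FiniteDimensional k (B ⧸ q) := by
  classical
  let A := Polynomial k
  letI : Algebra A B := (Polynomial.aeval r).toRingHom.toAlgebra
  letI : Algebra A K := ((algebraMap B K).comp (algebraMap A B)).toAlgebra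
  haveI : IsScalarTower A B K := IsScalarTower.of_algebraMap_eq fun _ => rfl
  haveI : IsScalarTower k A B := IsScalarTower.of_algebraMap_eq fun c => (Polynomial.aeval_C r c).symm
  haveI : IsScalarTower k A K := IsScalarTower.of_algebraMap_eq fun c => by
    rw [IsScalarTower.algebraMap_apply k B K, IsScalarTower.algebraMap_apply k A B]
    rfl
  have hX : algebraMap A B Polynomial.X = r := Polynomial.aeval_X r
  have hXK : algebraMap A K Polynomial.X = algebraMap B K r :=
    congrArg (algebraMap B K) hX
  -- unramified at the generic point
  haveI hFU : Algebra.FormallyUnramified A K := by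
    refine ⟨subsingleton_of_forall_eq 0 fun w => ?_⟩
    have hw : w ∈ Submodule.span K (Set.range (KaehlerDifferential.D A K)) := by
      rw [KaehlerDifferential.span_range_derivation]
      trivial
    have h0 : ∀ z : K, KaehlerDifferential.D A K z = 0 := fun z => by
      have hz : KaehlerDifferential.D k K z ∈ Submodule.span K {KaehlerDifferential.D k K (algebraMap B K r)} := by
        rw [hspan]; trivial
      obtain ⟨a, ha⟩ := Submodule.mem_span_singleton.1 hz
      have h := congrArg (KaehlerDifferential.map k A K K) ha
      rw [map_smul, KaehlerDifferential.map_D, KaehlerDifferential.map_D] at h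
      simp only [Algebra.algebraMap_self, RingHom.id_apply] at h
      rw [← h, ← hXK, Derivation.map_algebraMap, smul_zero]
    have hr : Set.range (KaehlerDifferential.D A K) ⊆ {0} := by
      rintro _ ⟨z, rfl⟩; exact h0 z
    have := Submodule.span_mono (R := K) hr hw
    simpa using this
  haveI : IsLocalization.AtPrime K (⊥ : Ideal B) := by
    show IsLocalization (⊥ : Ideal B).primeCompl K
    rw [Ideal.primeCompl_bot]
    infer_instance
  haveI : Algebra.IsUnramifiedAt A (⊥ : Ideal B) :=
    Algebra.FormallyUnramified.of_equiv ((IsLocalization.algEquiv (⊥ : Ideal B).primeCompl K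
      (Localization.AtPrime (⊥ : Ideal B))).restrictScalars A)
  haveI : Algebra.FiniteType A B := Algebra.FiniteType.of_restrictScalars_finiteType k A B
  obtain ⟨f, hf, hU⟩ := Algebra.exists_unramified_of_isUnramifiedAt (R := A) (⊥ : Ideal B)
  have hf0 : f ≠ 0 := fun h => hf (h ▸ zero_mem _)
  let Bf := Localization.Away f
  haveI : IsDomain Bf := IsLocalization.isDomain_localization (powers_le_nonZeroDivisors_of_noZeroDivisors hf0)
  -- injectivity
  have hinjB : Function.Injective (algebraMap A B) := by
    refine (injective_iff_map_eq_zero _).2 fun P hP => ?_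
    by_contra hP0
    have halg : IsIntegral k (algebraMap B K r) :=
      (IsAlgebraic.isIntegral (⟨P, hP0, hP⟩ : IsAlgebraic k r)).algebraMap
    let E := IntermediateField.adjoin k ({algebraMap B K r} : Set K)
    letI : Algebra A E := (Polynomial.aeval (⟨algebraMap B K r,
      IntermediateField.mem_adjoin_simple_self k _⟩ : E)).toRingHom.toAlgebra
    haveI : IsScalarTower A E K := IsScalarTower.of_algebraMap_eq fun a => by
      show algebraMap B K (Polynomial.aeval r a) = E.val (Polynomial.aeval _ a)
      exact (Polynomial.aeval_algebraMap_apply K r a).symm.trans (Polynomial.aeval_algHom_apply E.val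
        (⟨algebraMap B K r, IntermediateField.mem_adjoin_simple_self k _⟩ : E) a)
    haveI : Algebra.FormallyUnramified E K := Algebra.FormallyUnramified.of_restrictScalars A E K
    haveI : Algebra.EssFiniteType B K := Algebra.EssFiniteType.of_isLocalization K (nonZeroDivisors B)
    haveI : Algebra.EssFiniteType k K := Algebra.EssFiniteType.comp k B K
    haveI : Algebra.EssFiniteType E K := Algebra.EssFiniteType.of_comp k E K
    haveI : Algebra.IsSeparable E K := Algebra.FormallyUnramified.isSeparable E K
    haveI : Algebra.IsAlgebraic k E := IntermediateField.isAlgebraic_adjoin_simple halg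
    exact hK (Algebra.IsAlgebraic.trans k E K)
  haveI : Module.IsTorsionFree A Bf := Module.isTorsionFree_iff_algebraMap_injective.2 (by
    rw [IsScalarTower.algebraMap_eq A B Bf]
    exact (IsLocalization.injective Bf (powers_le_nonZeroDivisors_of_noZeroDivisors hf0)).comp hinjB)
  haveI : Module.Flat A Bf := by
    rw [IsDedekindDomain.flat_iff_torsion_eq_bot, ← Submodule.isTorsionFree_iff_torsion_eq_bot]
    infer_instance
  haveI : Algebra.FiniteType A Bf := hU.finiteType
  haveI : Algebra.FinitePresentation A Bf := Algebra.FinitePresentation.of_finiteType.1 inferInstance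
  have hopen := (PrimeSpectrum.isOpenMap_comap_of_hasGoingDown_of_finitePresentation (R := A) (S := Bf)).isOpen_range
  obtain ⟨P0, hP0⟩ : (Set.univ : Set (PrimeSpectrum Bf)).Nonempty := ⟨⟨⊥, Ideal.isPrime_bot⟩, trivial⟩
  obtain ⟨_, ⟨_, ⟨h, rfl⟩, rfl⟩, hmem, hsub⟩ :=
    PrimeSpectrum.isBasis_basic_opens.exists_subset_of_mem_open
      (Set.mem_range_self (f := PrimeSpectrum.comap (algebraMap A Bf)) P0) hopen
  have hh0 : h ≠ 0 := fun h0 => by
    rw [h0] at hmem
    simp at hmem
  obtain ⟨c, hc⟩ := Polynomial.exists_eval_ne_zero_of_natDegree_lt_card h hh0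
    ((Cardinal.natCast_lt_aleph0).trans_le (Cardinal.aleph0_le_mk k))
  let Pc : PrimeSpectrum A := ⟨RingHom.ker (Polynomial.evalRingHom c), RingHom.ker_isPrime _⟩
  obtain ⟨Q, hQ⟩ := hsub (show Pc ∈ ((PrimeSpectrum.basicOpen h : Opens _) : Set _) from hc)
  let C := Bf ⧸ Q.asIdeal
  haveI : IsScalarTower k A Bf := IsScalarTower.of_algebraMap_eq fun a => by
    rw [IsScalarTower.algebraMap_apply A B Bf, ← IsScalarTower.algebraMap_apply k A B]
    rfl
  letI : Algebra A k := (Polynomial.evalRingHom c).toAlgebra
  have hkill : ∀ a : A, algebraMap A C a = algebraMap k C (a.eval c) := fun a => by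
    have hmemQ : algebraMap A Bf (a - Polynomial.C (a.eval c)) ∈ Q.asIdeal := by
      show a - Polynomial.C (a.eval c) ∈ (PrimeSpectrum.comap (algebraMap A Bf) Q).asIdeal
      rw [hQ]
      show Polynomial.eval c ((a : Polynomial k) - Polynomial.C (a.eval c)) = 0
      exact (Polynomial.eval_sub _ _ _).trans (sub_eq_zero.2 Polynomial.eval_C.symm)
    rw [IsScalarTower.algebraMap_apply A Bf C, IsScalarTower.algebraMap_apply k A C,
      IsScalarTower.algebraMap_apply A Bf C, Polynomial.algebraMap_eq]
    exact Ideal.Quotient.eq.2 (by rwa [← map_sub])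
  haveI : IsScalarTower A k C := IsScalarTower.of_algebraMap_eq hkill
  haveI : Algebra.FormallyUnramified A C := inferInstance
  haveI : Algebra.FormallyUnramified k C := Algebra.FormallyUnramified.of_restrictScalars A k C
  haveI : Algebra.FiniteType k A := inferInstance
  haveI : Algebra.FiniteType k C := Algebra.FiniteType.trans (S := Bf) (Algebra.FiniteType.trans ‹_› ‹_›) inferInstance
  haveI : Algebra.EssFiniteType k C := inferInstance
  haveI : Module.Finite k C := Algebra.FormallyUnramified.finite_of_free k C
  have hCfield : IsField C := isField_of_isIntegral_of_isField' (R := k) (Field.toIsField k)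
  letI := hCfield.toField
  haveI : Algebra.IsSeparable k C := Algebra.FormallyUnramified.isSeparable k C
  let q : Ideal B := Q.asIdeal.comap (algebraMap B Bf)
  let ι : (B ⧸ q) →ₐ[k] C := Ideal.quotientMapₐ Q.asIdeal (IsScalarTower.toAlgHom k B Bf) le_rfl
  have hι : Function.Injective ι := Ideal.quotientMap_injective
  haveI : Module.Finite k (B ⧸ q) := Module.Finite.of_injective ι.toLinearMap hι
  have hqf : IsField (B ⧸ q) := isField_of_isIntegral_of_isField' (R := k) (Field.toIsField k)
  have hq : q.IsMaximal := Ideal.Quotient.maximal_of_isField q hqf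
  refine ⟨c, q, hq, ?_, ?_, inferInstance⟩
  · show algebraMap B Bf (r - algebraMap k B c) ∈ Q.asIdeal
    have h1 : (Polynomial.X - Polynomial.C c : A) ∈ (PrimeSpectrum.comap (algebraMap A Bf) Q).asIdeal := by
      rw [hQ]
      show Polynomial.eval c (Polynomial.X - Polynomial.C c) = 0
      simp
    have h2 : algebraMap A Bf (Polynomial.X - Polynomial.C c) = algebraMap B Bf (r - algebraMap k B c) := by
      rw [IsScalarTower.algebraMap_apply A B Bf, map_sub, hX, ← Polynomial.algebraMap_eq,
        ← IsScalarTower.algebraMap_apply k A B]
    rw [← h2]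
    exact h1
  · letI := hqf.toField
    exact Algebra.IsSeparable.of_algHom k C ι

end Groth.Agent.CurveSepPt
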