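import Groth.Agent.PicCurve.TorsCard
import Groth.Agent.AVTors.TatePt
import Groth.Agent.H23.MulEtale
import Groth.Agent.SmoothSecLib.Basic
import Groth.Agent.SteinConn.Basic
import Groth.Agent.PicCurve.TorsField

/-! Full torsion over a separable extension of bounded degree. -/

set_option autoImplicit false
set_option maxHeartbeats 1000000
set_option backward.isDefEq.respectTransparency false
set_option backward.isDefEq.respectTransparency.types false
set_option linter.style.haveILetI false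
set_option linter.unusedSectionVars false

universe u

open CategoryTheory CategoryTheory.Limits AlgebraicGeometry TopologicalSpace MonoidalCategory CartesianMonoidalCategory
open scoped CategoryTheory.MonObj

noncomputable section

namespace Groth.Agent.PicCurve

open Groth.Agent Groth.Agent.H23 Groth.Agent.H23.PicMul Groth.Agent.H26 Groth.Agent.Pic13Lib
  Groth.Agent.PicTangent Groth.Agent.PicTangent.JacDiff Groth.Agent.EllLaw
open scoped Groth.Agent.H23.PicMul

attribute [local instance] PicMul.clMonoid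

variable {k : Type u} [Field k]

/-- The sections of a finite étale scheme over an extension are defined over a finite separable subextension. -/
theorem exists_splitting_le {W : Scheme.{u}} (q : W ⟶ Spec (CommRingCat.of k)) [IsFinite q] [Etale q]
    (Ω : Type u) [Field Ω] [Algebra k Ω]
    [IsAlgClosed Ω] :
    ∃ L : IntermediateField k Ω, FiniteDimensional k L ∧ Algebra.IsSeparable k L ∧
      Module.finrank k L ≤ (Nat.card {t : Spec (CommRingCat.of Ω) ⟶ W //
        t ≫ q = Spec.map (CommRingCat.ofHom (algebraMap k Ω))}).factorial ∧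
      ∀ t : Spec (CommRingCat.of Ω) ⟶ W, t ≫ q = Spec.map (CommRingCat.ofHom (algebraMap k Ω)) →
        ∃ t' : Spec (CommRingCat.of L) ⟶ W, Spec.map (CommRingCat.ofHom (algebraMap L Ω)) ≫ t' = t ∧
          t' ≫ q = Spec.map (CommRingCat.ofHom (algebraMap k L)) := by
  classical
  haveI : IsAffine W := isAffine_of_isAffineHom q
  let φ : CommRingCat.of k ⟶ Γ(W, ⊤) := Spec.preimage (W.isoSpec.inv ≫ q)
  have hφ : Spec.map φ = W.isoSpec.inv ≫ q := Spec.map_preimage _
  letI : Algebra k Γ(W, ⊤) := φ.hom.toAlgebra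
  haveI : Algebra.Etale k Γ(W, ⊤) := by
    have h' : Etale (Spec.map φ) := by rw [hφ]; infer_instance
    rw [HasRingHomProperty.Spec_iff (P := @Etale)] at h'
    exact h'
  haveI : Module.Finite k Γ(W, ⊤) := Algebra.FormallyUnramified.finite_of_free k Γ(W, ⊤)
  haveI : Finite (Γ(W, ⊤) →ₐ[k] Ω) := inferInstance
  obtain ⟨S, hS⟩ := (inferInstance : Module.Finite k Γ(W, ⊤)).1
  let G : Set Ω := ⋃ a : Γ(W, ⊤) →ₐ[k] Ω, a '' (S : Set Γ(W, ⊤))
  have hG : G.Finite := Set.finite_iUnion fun a => (S.finite_toSet).image _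
  have hsep : ∀ x ∈ G, _root_.IsSeparable k x := fun x hx => by
    obtain ⟨a, c, -, rfl⟩ := Set.mem_iUnion.1 hx
    exact isSeparable_apply a c
  let L := IntermediateField.adjoin k G
  haveI : FiniteDimensional k L := by
    haveI := hG.to_subtype
    exact IntermediateField.finiteDimensional_adjoin fun x hx => (hsep x hx).isIntegral
  haveI hLsep : Algebra.IsSeparable k L := (IntermediateField.isSeparable_adjoin_iff_isSeparable k Ω).2 hsep
  have hpts : Nat.card {t : Spec (CommRingCat.of Ω) ⟶ W //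
      t ≫ q = Spec.map (CommRingCat.ofHom (algebraMap k Ω))} = Nat.card (Γ(W, ⊤) →ₐ[k] Ω) := by
    refine (Nat.card_congr (Equiv.ofBijective (fun a : Γ(W, ⊤) →ₐ[k] Ω =>
      (⟨Spec.map (CommRingCat.ofHom a.toRingHom) ≫ W.isoSpec.inv, ?_⟩ : {t : Spec (CommRingCat.of Ω) ⟶ W //
        t ≫ q = Spec.map (CommRingCat.ofHom (algebraMap k Ω))})) ⟨fun a b h => ?_, fun t => ?_⟩)).symm
    · rw [Category.assoc, ← hφ, ← Spec.map_comp]
      congr 1
      exact CommRingCat.hom_ext (RingHom.ext fun r => a.commutes r)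
    · have h1 := Spec.map_injective ((cancel_mono W.isoSpec.inv).1 (congrArg Subtype.val h))
      exact AlgHom.coe_ringHom_injective (congrArg CommRingCat.Hom.hom h1)
    · obtain ⟨t, ht⟩ := t
      let ψ : Γ(W, ⊤) ⟶ CommRingCat.of Ω := Spec.preimage (t ≫ W.isoSpec.hom)
      have hψ : Spec.map ψ = t ≫ W.isoSpec.hom := Spec.map_preimage _
      have hψφ : φ ≫ ψ = CommRingCat.ofHom (algebraMap k Ω) := Spec.map_injective (by
        rw [Spec.map_comp, hψ, hφ, Category.assoc, Iso.hom_inv_id_assoc, ht])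
      refine ⟨{ ψ.hom with commutes' := fun r => congr($(hψφ).hom r) }, Subtype.ext ?_⟩
      show Spec.map ψ ≫ W.isoSpec.inv = t
      rw [hψ, Category.assoc, Iso.hom_inv_id, Category.comp_id]
  have hmemA : ∀ (a : Γ(W, ⊤) →ₐ[k] Ω) c, a c ∈ L := fun a c => by
    have hc : c ∈ Submodule.span k (S : Set Γ(W, ⊤)) := hS ▸ trivial
    induction hc using Submodule.span_induction with
    | mem x hx => exact IntermediateField.subset_adjoin k G (Set.mem_iUnion.2 ⟨a, x, hx, rfl⟩)
    | zero => rw [map_zero]; exact zero_mem L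
    | add x y _ _ hx hy => rw [map_add]; exact add_mem hx hy
    | smul r x _ hx => rw [map_smul]; exact IntermediateField.smul_mem L hx
  have hbound : Module.finrank k L ≤ (Nat.card (Γ(W, ⊤) →ₐ[k] Ω)).factorial := by
    classical
    letI := Fintype.ofFinite (Γ(W, ⊤) →ₐ[k] Ω)
    let act : (L →ₐ[k] Ω) → (Γ(W, ⊤) →ₐ[k] Ω) ↪ (Γ(W, ⊤) →ₐ[k] Ω) := fun e =>
      ⟨fun a => e.comp (a.codRestrict L.toSubalgebra (hmemA a)), fun a b hab => AlgHom.ext fun c =>
        congrArg Subtype.val (e.toRingHom.injective (DFunLike.congr_fun hab c))⟩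
    have hact : Function.Injective act := fun e e' h => by
      refine IntermediateField.algHom_ext_of_eq_adjoin _ (rfl : L = IntermediateField.adjoin k G) fun x hx => ?_
      obtain ⟨a, c, -, rfl⟩ := Set.mem_iUnion.1 hx
      exact DFunLike.congr_fun (congrArg (fun j : (Γ(W, ⊤) →ₐ[k] Ω) ↪ _ => j a) h) c
    calc Module.finrank k L = Nat.card (L →ₐ[k] Ω) := (AlgHom.natCard_of_splits k L Ω fun x =>
            IsAlgClosed.splits _).symm
      _ ≤ Nat.card ((Γ(W, ⊤) →ₐ[k] Ω) ↪ (Γ(W, ⊤) →ₐ[k] Ω)) := Nat.card_le_card_of_injective act hact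
      _ = (Nat.card (Γ(W, ⊤) →ₐ[k] Ω)).factorial := by
            rw [Nat.card_eq_fintype_card, Fintype.card_embedding_eq, Nat.descFactorial_self,
              Nat.card_eq_fintype_card]
  refine ⟨L, inferInstance, hLsep, hpts ▸ hbound, fun t ht => ?_⟩
  let ψ : Γ(W, ⊤) ⟶ CommRingCat.of Ω := Spec.preimage (t ≫ W.isoSpec.hom)
  have hψ : Spec.map ψ = t ≫ W.isoSpec.hom := Spec.map_preimage _
  have hψφ : φ ≫ ψ = CommRingCat.ofHom (algebraMap k Ω) := Spec.map_injective (by
    rw [Spec.map_comp, hψ, hφ, Category.assoc, Iso.hom_inv_id_assoc, ht])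
  let a : Γ(W, ⊤) →ₐ[k] Ω :=
    { ψ.hom with commutes' := fun r => congr($(hψφ).hom r) }
  have hmem : ∀ c, a c ∈ L := fun c => by
    have hc : c ∈ Submodule.span k (S : Set Γ(W, ⊤)) := hS ▸ trivial
    induction hc using Submodule.span_induction with
    | mem x hx => exact IntermediateField.subset_adjoin k G (Set.mem_iUnion.2 ⟨a, x, hx, rfl⟩)
    | zero => rw [map_zero]; exact zero_mem L
    | add x y _ _ hx hy => rw [map_add]; exact add_mem hx hy
    | smul r x _ hx => rw [map_smul]; exact IntermediateField.smul_mem L hx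
  let a' : Γ(W, ⊤) →ₐ[k] L := a.codRestrict L.toSubalgebra hmem
  refine ⟨Spec.map (CommRingCat.ofHom a'.toRingHom) ≫ W.isoSpec.inv, ?_, ?_⟩
  · rw [← Category.assoc, ← Spec.map_comp, ← cancel_mono W.isoSpec.hom, Category.assoc, Iso.inv_hom_id,
      Category.comp_id, ← hψ]
    congr 1
  · rw [Category.assoc, ← hφ, ← Spec.map_comp]
    congr 1
    exact CommRingCat.hom_ext (RingHom.ext fun r => a'.commutes r)

/-- Torsion points of an abelian variety with values in the algebraic closure are defined over a finite separable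
extension. -/
theorem exists_full_torsion_le (A : Over (Spec (CommRingCat.of k))) [GrpObj A] [IsCommMonObj A] [IsProper A.hom]
    [GeometricallyIntegral A.hom] {g : ℕ} (hg : topologicalKrullDim A.left = g) (n : ℕ) (hn : (n : k) ≠ 0) :
    ∃ L : IntermediateField k (AlgebraicClosure k), FiniteDimensional k L ∧ Algebra.IsSeparable k L ∧
      Module.finrank k L ≤ (n ^ (2 * g)).factorial ∧
      Nat.card (AbDual.torsPts A n (SGA7.pt L)) = n ^ (2 * g) := by
  let Ω := AlgebraicClosure k
  have hn0 : 0 < n := Nat.pos_of_ne_zero fun h => hn (by rw [h, Nat.cast_zero])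
  obtain ⟨hf, hfl, -⟩ := AVDegLib.zpow_props (A := A) (n : ℤ) (by exact_mod_cast hn0.ne')
  rw [zpow_natCast] at hf hfl
  haveI : IsFinite (pullback.fst (η[A]).left (𝟙 A ^ n : A ⟶ A).left) :=
    MorphismProperty.pullback_fst (P := @IsFinite) _ _ hf
  haveI : Etale (pullback.fst (η[A]).left (𝟙 A ^ n : A ⟶ A).left) := by
    have hu : IsUnit ((n : ℤ) : Γ(Spec (CommRingCat.of k), ⊤)) := by
      have h := (isUnit_iff_ne_zero.2 hn).map (Scheme.ΓSpecIso (CommRingCat.of k)).inv.hom
      rw [map_natCast] at h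
      simpa using h
    haveI : GeometricallyConnected A.hom := H23.CubeAb.geometricallyConnected_of_integral A.hom
    haveI : LocallyOfFinitePresentation A.hom := inferInstance
    refine MorphismProperty.pullback_fst (P := @Etale) _ _ ?_
    have := H23.MulEtale.etale_zpow (X := A) (n : ℤ) hu
    rwa [zpow_natCast] at this
  obtain ⟨L, hLf, hLs, hLb, hL⟩ := exists_splitting_le (pullback.fst (η[A]).left (𝟙 A ^ n : A ⟶ A).left) Ω
  have hcard : Nat.card (AbDual.torsPts A n (SGA7.pt (K := k) Ω)) = n ^ (2 * g) := by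
    obtain ⟨hfin, -, hiso⟩ := AVTors.finite_torsPts_pt Ω A hg n hn0
    have hΩ : (n : Ω) ≠ 0 := fun h => hn ((algebraMap k Ω).injective (by rw [map_natCast, map_zero]; exact h))
    obtain ⟨e⟩ := hiso hΩ
    rw [Nat.card_congr e.toEquiv, Nat.card_congr Multiplicative.toAdd, Nat.card_fun, Nat.card_zmod, Nat.card_fin]
  refine ⟨L, hLf, hLs, hLb.trans (le_of_eq (congrArg Nat.factorial
    ((Nat.card_congr (H23.TorsRed.ptsEquiv A n (SGA7.pt (K := k) Ω))).symm.trans hcard))), ?_⟩
  let i : SGA7.pt (K := k) Ω ⟶ SGA7.pt (K := k) L := Over.homMk (Spec.map (CommRingCat.ofHom (algebraMap L Ω))) (by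
    show _ ≫ Spec.map _ = Spec.map _
    rw [← Spec.map_comp]
    congr 1)
  haveI : Flat i.left := by
    show Flat (Spec.map (CommRingCat.ofHom (algebraMap L Ω)))
    rw [Flat.SpecMap_iff]
    exact RingHom.flat_algebraMap_iff.2 inferInstance
  haveI : Surjective i.left := ⟨fun z => by
    haveI : Subsingleton ↥(SGA7.pt (K := k) L).left := inferInstanceAs (Subsingleton (PrimeSpectrum L))
    exact ⟨(IsLocalRing.closedPoint Ω : PrimeSpectrum Ω), Subsingleton.elim _ _⟩⟩
  haveI : Epi i.left := Flat.epi_of_flat_of_surjective i.left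
  have hm : ∀ a : SGA7.pt (K := k) L ⟶ A, a ∈ AbDual.torsPts A n (SGA7.pt L) →
      i ≫ a ∈ AbDual.torsPts A n (SGA7.pt Ω) := fun a ha => by
    show (i ≫ a) ^ n = 1
    rw [← MonObj.comp_pow, show a ^ n = 1 from ha, MonObj.comp_one]
  refine (Nat.card_congr (Equiv.ofBijective
    (fun a : AbDual.torsPts A n (SGA7.pt L) => (⟨i ≫ a.1, hm a.1 a.2⟩ : AbDual.torsPts A n (SGA7.pt Ω)))
    ⟨fun a b e => Subtype.ext (Over.OverMorphism.ext ((cancel_epi i.left).1
      (congrArg (fun z : AbDual.torsPts A n (SGA7.pt Ω) => z.1.left) e))), fun b => ?_⟩)).trans ?_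
  · obtain ⟨t', ht', ht'q⟩ := hL (H23.TorsRed.ptsEquiv A n (SGA7.pt Ω) ⟨b.1, b.2⟩).1
      (H23.TorsRed.ptsEquiv A n (SGA7.pt Ω) ⟨b.1, b.2⟩).2
    let a := (H23.TorsRed.ptsEquiv A n (SGA7.pt L)).symm ⟨t', ht'q⟩
    refine ⟨⟨a.1, a.2⟩, Subtype.ext (Over.OverMorphism.ext ?_)⟩
    show i.left ≫ t' ≫ pullback.snd _ _ = _
    rw [← Category.assoc]
    refine (congrArg (fun m => m ≫ pullback.snd _ _) ht').trans ?_
    exact pullback.lift_snd _ _ _
  · exact hcard

variable {X : Scheme.{u}} (f : X ⟶ Spec (CommRingCat.of k)) [IsProper f]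
  [SmoothOfRelativeDimension 1 f] [GeometricallyConnected f]
  (σ : Spec (CommRingCat.of k) ⟶ X) (hσ : σ ≫ f = 𝟙 _)

include σ hσ in
/-- A pointed curve acquires full torsion over a finite separable extension. -/
theorem exists_full_pic_torsion_le {g : ℕ} (hg : (letI : X.Over (Spec (CommRingCat.of k)) := ⟨f⟩; Curv2.genus k X) = g)
    (n : ℕ) (hn : (n : k) ≠ 0) :
    ∃ L : IntermediateField k (AlgebraicClosure k), FiniteDimensional k L ∧ Algebra.IsSeparable k L ∧
      Module.finrank k L ≤ (n ^ (2 * g)).factorial ∧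
      Nat.card {c : PicF.Cl (PicF.XT f (SGA7.pt (K := k) L)) | PicF.IsInvertibleCl c ∧ c ^ n = 1} = n ^ (2 * g) := by
  obtain ⟨J, ξ, h₁, h₂, h₃, h₄, h₅⟩ := exists_jacobian f σ hσ
  have hu : IsUniv0 f σ hσ ξ := ⟨h₄, h₅⟩
  haveI : GeometricallyIntegral J.hom := geometricallyIntegral_of_smooth J.hom
  letI := jacGrpObj f σ hσ ξ hu
  have hm := isMulClass_jac f σ hσ ξ hu
  haveI := isCommMonObj f σ hσ hm hu
  have hd : topologicalKrullDim J.left = (g : WithBot ℕ∞) := by rw [dim_jacobian f σ hσ hu, hg]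
  obtain ⟨L, hLf, hLs, hLb, hL⟩ := exists_full_torsion_le J hd n hn
  refine ⟨L, hLf, hLs, hLb, ?_⟩
  rw [card_tors_field f σ hσ hu hm n (Nat.pos_of_ne_zero fun h => hn (by rw [h, Nat.cast_zero]))]
  exact hL

end Groth.Agent.PicCurve
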